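import Groth.Agent.H30.DHom.Basic
import Groth.Agent.Lib.DerivedOX.GammaAcyclic

/-!
# `U ↦ Hom_D(ℤ_U, L)` as the cohomology of the complex of presheaves, `L` K-injective
-/

universe u

open CategoryTheory Limits Opposite TopologicalSpace HomologicalComplex

namespace Groth.Agent.H30.DHom

open Groth.Agent.Lib.ZarCoh.Basic Groth.Agent.Lib.DerivedOX

variable {X : TopCat.{u}} (L : CochainComplex (CohTop.Ab X) ℤ)

/-- Sections killed by the differential come from cocycles. -/
theorem exists_cycle (W : (Opens X)ᵒᵖ) (x : ((secCx L).X 0).obj W)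
    (hx : ((secCx L).d 0 1).app W x = 0) :
    ∃ z : ((secCx L).cycles 0).obj W, ((secCx L).iCycles 0).app W z = x := by
  let K := secCx L
  let S : ShortComplex _ := ShortComplex.mk (K.iCycles 0) (K.d 0 1) (K.iCycles_d 0 1)
  have hS : S.Exact :=
    ShortComplex.exact_of_f_is_kernel S (K.cyclesIsKernel 0 1 ((ComplexShape.up ℤ).next_eq' rfl))
  exact (ShortComplex.ab_exact_iff _).1
    (hS.map ((evaluation (Opens X)ᵒᵖ AddCommGrpCat.{u}).obj W)) x hx

variable [HasDerivedCategory.{u} (CohTop.Ab X)]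

variable [L.IsKInjective]

theorem toCycles_toD : (secCx L).toCycles (-1) 0 ≫ toD L = 0 := by
  ext W y
  change DerivedCategory.Q.map (toHom L W.unop (((secCx L).toCycles (-1) 0).app W y)) = 0
  rw [Q_map_eq_zero_iff]
  refine (GammaAcyclic.quotient_map_mkHomFromSingle_eq_zero_iff _ _ _).2
    ⟨(homEquiv W.unop (L.X (-1))).symm y, ?_⟩
  apply (homEquiv W.unop (L.X 0)).injective
  refine (homEquiv_comp _ _).trans ?_
  rw [Equiv.apply_symm_apply]
  refine (congrArg ((L.d (-1) 0).hom.app (op W.unop))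
    ((homEquiv W.unop (L.X (-1))).apply_symm_apply y)).trans ?_
  change _ = ((secCx L).toCycles (-1) 0 ≫ (secCx L).iCycles 0).app W y
  rw [toCycles_i]
  rfl

theorem exact_toD : (ShortComplex.mk ((secCx L).toCycles (-1) 0) (toD L) (toCycles_toD L)).Exact := by
  refine exact_of_evaluation _ fun W => ?_
  rw [ShortComplex.ab_exact_iff]
  intro z hz
  change DerivedCategory.Q.map (toHom L W.unop z) = 0 at hz
  rw [Q_map_eq_zero_iff] at hz
  obtain ⟨s, hs⟩ := (GammaAcyclic.quotient_map_mkHomFromSingle_eq_zero_iff _ _ _).1 hz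
  refine ⟨homEquiv W.unop _ s, ?_⟩
  have hm : Mono ((secCx L).iCycles 0) := inferInstance
  have : Mono (((secCx L).iCycles 0).app W) := inferInstance
  apply (AddCommGrpCat.mono_iff_injective _).1 this
  have e := congrArg (homEquiv W.unop (L.X 0)) hs
  rw [homEquiv_comp, Equiv.apply_symm_apply] at e
  refine Eq.trans ?_ e
  change ((secCx L).toCycles (-1) 0 ≫ (secCx L).iCycles 0).app W _ = _
  rw [toCycles_i]
  rfl

theorem epi_toD : Epi (toD L) := by
  rw [NatTrans.epi_iff_epi_app]
  intro W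
  rw [AddCommGrpCat.epi_iff_surjective]
  intro φ
  obtain ⟨f, hf⟩ :=
    Q_map_surjective ((HomologicalComplex.single (CohTop.Ab X) (.up ℤ) 0).obj (Zs.obj W.unop)) L φ
  subst hf
  let g := (singleObjXSelf (ComplexShape.up ℤ) 0 (Zs.obj W.unop)).inv ≫ f.f 0
  have hg : g ≫ L.d 0 1 = 0 := by
    rw [Category.assoc, f.comm, single_obj_d, zero_comp, comp_zero]
  obtain ⟨z, hz⟩ := exists_cycle L W (homEquiv W.unop _ g) (by
    have e := homEquiv_comp g (L.d 0 1)
    rw [hg] at e
    refine e.symm.trans ?_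
    rw [homEquiv_apply]
    rfl)
  refine ⟨z, congrArg (DerivedCategory.Q.map ·) ?_⟩
  apply from_single_hom_ext
  rw [toHom, mkHomFromSingle_f, hz, Equiv.symm_apply_apply]
  exact Iso.hom_inv_id_assoc _ _

/-- `Hom_D(ℤ_U, L) ≅ H⁰(L(U))`, naturally in `U`. -/
noncomputable def iso : (secCx L).homology 0 ≅ homPre (DerivedCategory.Q.obj L) :=
  haveI : Epi (toD L) := epi_toD L
  ((secCx L).homologyIsCokernel (-1) 0 ((ComplexShape.up ℤ).prev_eq' (neg_add_cancel 1))).coconePointUniqueUpToIso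
    (exact_toD L).gIsCokernel

end Groth.Agent.H30.DHom
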