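import Mathlib.Algebra.Homology.Embedding.CochainComplex
import Mathlib.Topology.Sheaves.SheafCondition.Sites
import Groth.Agent.H30.DHom.Iso
import Groth.Agent.Lib.ZarCoh.Compare
import Groth.Agent.Lib.DerCat.DerAdj
import Groth.Agent.Lib.SiteCoh.LocExact

/-!
# Direct images of K-injective complexes and their sections in the lowest degree
-/

universe u

open CategoryTheory Limits Opposite TopologicalSpace HomologicalComplex

open Groth.Agent.Lib.ZarCoh.Compare

set_option linter.style.haveILetI false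

namespace Groth.Agent.H30.DHom

variable {X Y : TopCat.{u}}

/-- Direct image preserves K-injective complexes. -/
theorem isKInjective_push (f : X ⟶ Y) (I : CochainComplex (CohTop.Ab X) ℤ) [I.IsKInjective] :
    CochainComplex.IsKInjective (((CohTop.push f).mapHomologicalComplex (ComplexShape.up ℤ)).obj I) where
  nonempty_homotopy_zero {K} φ hK := by
    let adj0 : CohTop.pull f ⊣ CohTop.push f :=
      TopCat.Sheaf.pullbackPushforwardAdjunction AddCommGrpCat.{u} f
    let adj := Lib.DerCat.DerAdj.adjC adj0 (ComplexShape.up ℤ)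
    have hK' : (((CohTop.pull f).mapHomologicalComplex (ComplexShape.up ℤ)).obj K).Acyclic :=
      fun n => (hK n).map (CohTop.pull f)
    let h := CochainComplex.IsKInjective.homotopyZero ((adj.homEquiv K I).symm φ) hK'
    let h' := (((CohTop.push f).mapHomotopy h).compLeft (adj.unit.app K))
    exact ⟨((Homotopy.ofEq (((adj.homEquiv K I).apply_symm_apply φ).symm.trans
      (adj.homEquiv_unit _ _ _))).trans h').trans (Homotopy.ofEq (by simp))⟩

/-- A complex of sheaves whose presheaf cohomology vanishes on a basis is exact. -/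
theorem exactAt_of_basis (J : CochainComplex (CohTop.Ab Y) ℤ) (n : ℤ) (B : Set (Opens Y))
    (hB : Opens.IsBasis B) (h : ∀ V ∈ B, IsZero (((secCx J).homology n).obj (op V))) :
    J.ExactAt n := by
  let K := secCx J
  let a := presheafToSheaf (Opens.grothendieckTopology Y) AddCommGrpCat.{u}
  have h1 : ((K.sc n).map a).Exact := by
    refine Lib.SiteCoh.LocExact.exact_map_of_locally_exact _ fun U x hx => ?_
    refine ⟨⟨fun V _ => ∃ W ∈ B, V ≤ W ∧ W ≤ U, fun ⟨W, hW, h1, h2⟩ g =>
      ⟨W, hW, le_trans g.le h1, h2⟩⟩, ?_, ?_⟩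
    · intro y hy
      obtain ⟨W, hW, hyW, hWU⟩ := Opens.isBasis_iff_nbhd.1 hB hy
      exact ⟨W, homOfLE hWU, ⟨W, hW, le_rfl, hWU⟩, hyW⟩
    · intro V g ⟨W, hW, hVW, hWU⟩
      let ev := (evaluation (Opens Y)ᵒᵖ AddCommGrpCat.{u}).obj (op W)
      have he : ((K.sc n).map ev).Exact := by
        rw [ShortComplex.exact_iff_isZero_homology]
        exact (h W hW).of_iso ((K.sc n).mapHomologyIso ev)
      obtain ⟨w, hw⟩ := (ShortComplex.ab_exact_iff _).1 he
        ((K.sc n).X₂.map (homOfLE hWU).op x) (by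
          change (K.sc n).g.app (op W) _ = 0
          rw [NatTrans.naturality_apply, hx, map_zero])
      refine ⟨(K.sc n).X₁.map (homOfLE hVW).op w, ?_⟩
      rw [NatTrans.naturality_apply]
      change (K.sc n).f.app (op W) w = _ at hw
      rw [hw, ← ConcreteCategory.comp_apply, ← Functor.map_comp]
      rfl
  let e : sheafToPresheaf (Opens.grothendieckTopology Y) AddCommGrpCat.{u} ⋙ a ≅ 𝟭 _ :=
    asIso (sheafificationAdjunction _ _).counit
  exact ShortComplex.exact_of_iso ((J.sc n).mapNatIso e) h1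

variable {n : ℤ}

/-- A K-injective complex exact below `n` is, up to homotopy, a retract of its truncation. -/
theorem exists_retraction (J : CochainComplex (CohTop.Ab Y) ℤ) [J.IsKInjective] (n : ℤ)
    (hJ : ∀ i < n, J.ExactAt i) :
    ∃ r : J.truncGE n ⟶ J, Nonempty (Homotopy (J.πTruncGE n ≫ r) (𝟙 J)) := by
  letI := HasDerivedCategory.standard (CohTop.Ab Y)
  haveI : J.IsGE n := (CochainComplex.isGE_iff J n).2 hJ
  haveI : IsIso (DerivedCategory.Q.map (J.πTruncGE n)) :=
    (DerivedCategory.isIso_Q_map_iff_quasiIso (φ := J.πTruncGE n)).2 inferInstance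
  obtain ⟨r, hr⟩ := Q_map_surjective (J.truncGE n) J (inv (DerivedCategory.Q.map (J.πTruncGE n)))
  refine ⟨r, ⟨HomotopyCategory.homotopyOfEq _ _ ?_⟩⟩
  rw [← sub_eq_zero, ← Functor.map_sub, ← Q_map_eq_zero_iff, Functor.map_sub, Functor.map_comp, hr,
    IsIso.hom_inv_id, CategoryTheory.Functor.map_id, sub_self]

/-- Presheaf cohomology of a K-injective complex is a retract of that of its truncation. -/
theorem exists_retract_homology (J : CochainComplex (CohTop.Ab Y) ℤ) [J.IsKInjective] (n : ℤ)
    (hJ : ∀ i < n, J.ExactAt i) :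
    Nonempty (Retract ((secCx J).homology 0) ((secCx (J.truncGE n)).homology 0)) := by
  obtain ⟨r, ⟨h⟩⟩ := exists_retraction J n hJ
  let G := sheafToPresheaf (Opens.grothendieckTopology Y) AddCommGrpCat.{u}
  refine ⟨⟨homologyMap ((G.mapHomologicalComplex _).map (J.πTruncGE n)) 0,
    homologyMap ((G.mapHomologicalComplex _).map r) 0, ?_⟩⟩
  rw [← homologyMap_comp, ← Functor.map_comp, (G.mapHomotopy h).homologyMap_eq,
    CategoryTheory.Functor.map_id, homologyMap_id]

/-- A presheaf of groups which is a retract of a sheaf is a sheaf. -/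
theorem isSheaf_of_retract {P : (Opens Y)ᵒᵖ ⥤ AddCommGrpCat.{u}}
    (F : CohTop.Ab Y) (h : Retract P F.obj) :
    Presheaf.IsSheaf (Opens.grothendieckTopology Y) P := by
  let φ : F ⟶ F := ⟨h.r ≫ h.i⟩ - 𝟙 F
  have hc : h.i ≫ φ.hom = 0 := by
    change h.i ≫ (h.r ≫ h.i - 𝟙 F.obj) = 0
    rw [Preadditive.comp_sub, h.retract_assoc, Category.comp_id, sub_self]
  let G := sheafToPresheaf (Opens.grothendieckTopology Y) AddCommGrpCat.{u}
  have hk : IsLimit (KernelFork.ofι h.i hc) :=
    KernelFork.IsLimit.ofι _ _ (fun k _ => k ≫ h.r)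
      (fun k hk => by
        have hk' : k ≫ (h.r ≫ h.i - 𝟙 F.obj) = 0 := hk
        rw [Preadditive.comp_sub, sub_eq_zero, Category.comp_id] at hk'
        rw [Category.assoc]; exact hk')
      (fun k hk m hm => by rw [← hm, Category.assoc, h.retract, Category.comp_id])
  exact (Presheaf.isSheaf_of_iso_iff ((PreservesKernel.iso G φ).trans
    ((kernelIsKernel φ.hom).conePointUniqueUpToIso hk))).1 (kernel φ).property

/-- The bottom presheaf cohomology of a complex of sheaves starting in degree zero is a sheaf. -/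
theorem exists_sheaf_homology_zero (T : CochainComplex (CohTop.Ab Y) ℤ) [T.IsStrictlyGE 0] :
    ∃ F : CohTop.Ab Y, Nonempty ((secCx T).homology 0 ≅ F.obj) := by
  let G := sheafToPresheaf (Opens.grothendieckTopology Y) AddCommGrpCat.{u}
  have hd : (secCx T).d (-1) 0 = 0 :=
    ((G.map_isZero (T.isZero_of_isStrictlyGE 0 (-1) (by lia)))).eq_of_src _ _
  refine ⟨kernel (T.d 0 1), ⟨?_⟩⟩
  exact ((secCx T).isoHomologyπ (-1) 0 ((ComplexShape.up ℤ).prev_eq' (neg_add_cancel 1)) hd).symm ≪≫
    ((secCx T).cyclesIsKernel 0 1 ((ComplexShape.up ℤ).next_eq' rfl)).conePointUniqueUpToIso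
      (kernelIsKernel _) ≪≫ (PreservesKernel.iso G (T.d 0 1)).symm

/-- Presheaf cohomology vanishes where the complex of sheaves is zero. -/
theorem isZero_homology_of_gt (T : CochainComplex (CohTop.Ab Y) ℤ) (n : ℤ) [T.IsStrictlyGE n]
    {i : ℤ} (hi : i < n) : IsZero ((secCx T).homology i) :=
  (HomologicalComplex.exactAt_iff_isZero_homology _ _).1 (ShortComplex.exact_of_isZero_X₂ _
    ((sheafToPresheaf _ _).map_isZero (T.isZero_of_isStrictlyGE n i hi)))

/-- Presheaf cohomology of a pushforward is the pushforward of presheaf cohomology. -/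
noncomputable def pushHomologyIso (f : X ⟶ Y) (I : CochainComplex (CohTop.Ab X) ℤ) (n : ℤ) :
    (secCx (((CohTop.push f).mapHomologicalComplex _).obj I)).homology n ≅
      (Opens.map f).op ⋙ (secCx I).homology n :=
  ((secCx I).sc n).mapHomologyIso
    ((Functor.whiskeringLeft _ _ AddCommGrpCat.{u}).obj (Opens.map f).op)

end Groth.Agent.H30.DHom
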