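import Mathlib.Algebra.Homology.DerivedCategory.KInjective
import Groth.Prelude.Def_CohCx
import Groth.Agent.Lib.ZarCoh.Basic

/-!
# Hom in the derived category from free sheaves into K-injective complexes

For a K-injective complex `L` of abelian sheaves on a space, the presheaf
`U ↦ Hom_D(ℤ_U, L)` is the degree zero cohomology of the complex of presheaves underlying `L`.
-/

universe w u

open CategoryTheory Limits Opposite TopologicalSpace HomologicalComplex

namespace Groth.Agent.H30.DHom

open Groth.Agent.Lib.ZarCoh.Basic

section Abelian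

variable {C : Type (u + 1)} [Category.{u} C] [Abelian C] [HasDerivedCategory.{w} C]

/-- Morphisms to a K-injective complex in the derived category lift to morphisms of complexes. -/
theorem Q_map_surjective (K L : CochainComplex C ℤ) [L.IsKInjective]
    (φ : DerivedCategory.Q.obj K ⟶ DerivedCategory.Q.obj L) :
    ∃ f : K ⟶ L, DerivedCategory.Q.map f = φ := by
  let e := DerivedCategory.quotientCompQhIso C
  obtain ⟨g, hg⟩ := (CochainComplex.IsKInjective.Qh_map_bijective _ L).surjective
    (e.hom.app K ≫ φ ≫ e.inv.app L)
  obtain ⟨f, rfl⟩ := (HomotopyCategory.quotient C (.up ℤ)).map_surjective g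
  refine ⟨f, ?_⟩
  have h := e.hom.naturality f
  rw [Functor.comp_map, hg] at h
  simp only [Category.assoc, Iso.inv_hom_id_app] at h
  exact (cancel_epi (e.hom.app K)).1 (h.symm.trans (by simp))

/-- A morphism to a K-injective complex is zero in the derived category iff null-homotopic. -/
theorem Q_map_eq_zero_iff {K L : CochainComplex C ℤ} [L.IsKInjective] (f : K ⟶ L) :
    DerivedCategory.Q.map f = 0 ↔ (HomotopyCategory.quotient C (.up ℤ)).map f = 0 := by
  let e := DerivedCategory.quotientCompQhIso C
  have h := e.hom.naturality f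
  rw [Functor.comp_map] at h
  constructor
  · intro hf
    apply (CochainComplex.IsKInjective.Qh_map_bijective _ L).injective
    rw [Functor.map_zero, ← cancel_mono (e.hom.app L), h, hf]
    simp
  · intro hf
    rw [hf, Functor.map_zero, zero_comp] at h
    exact (cancel_epi (e.hom.app K)).1 (h.symm.trans comp_zero.symm)

end Abelian

/-- Exactness in a category of presheaves of groups is detected pointwise. -/
theorem exact_of_evaluation {J : Type u} [SmallCategory J]
    (S : ShortComplex (J ⥤ AddCommGrpCat.{u}))
    (h : ∀ j, (S.map ((evaluation J AddCommGrpCat.{u}).obj j)).Exact) : S.Exact := by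
  rw [ShortComplex.exact_iff_isZero_homology]
  refine Functor.isZero _ fun j => ?_
  exact ((ShortComplex.exact_iff_isZero_homology _).1 (h j)).of_iso
    (S.mapHomologyIso ((evaluation J AddCommGrpCat.{u}).obj j)).symm

variable {X : TopCat.{u}}

/-- The underlying complex of presheaves of a complex of sheaves. -/
noncomputable abbrev secCx (L : CochainComplex (CohTop.Ab X) ℤ) :
    CochainComplex ((Opens X)ᵒᵖ ⥤ AddCommGrpCat.{u}) ℤ :=
  ((sheafToPresheaf (Opens.grothendieckTopology X) AddCommGrpCat.{u}).mapHomologicalComplex _).obj L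

section

variable [HasDerivedCategory.{u} (CohTop.Ab X)]

/-- The presheaf `U ↦ Hom_D(ℤ_U, M)`. -/
noncomputable abbrev homPre (M : DerivedCategory (CohTop.Ab X)) :
    (Opens X)ᵒᵖ ⥤ AddCommGrpCat.{u} :=
  (Zs ⋙ DerivedCategory.singleFunctor (CohTop.Ab X) 0).op ⋙ preadditiveYoneda.obj M

variable (L : CochainComplex (CohTop.Ab X) ℤ)

lemma cycles_cond (W : Opens X) (z : ((secCx L).cycles 0).obj (op W)) (k : ℤ) :
    (homEquiv W (L.X 0)).symm (((secCx L).iCycles 0).app (op W) z) ≫ L.d 0 k = 0 := by
  apply (homEquiv W (L.X k)).injective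
  rw [homEquiv_comp, Equiv.apply_symm_apply, homEquiv_apply]
  change ((secCx L).iCycles 0 ≫ (secCx L).d 0 k).app (op W) z = 0
  rw [iCycles_d]
  rfl

/-- The map of complexes given by a cocycle section. -/
noncomputable def toHom (W : Opens X) (z : ((secCx L).cycles 0).obj (op W)) :
    (HomologicalComplex.single (CohTop.Ab X) (.up ℤ) 0).obj (Zs.obj W) ⟶ L :=
  mkHomFromSingle ((homEquiv W (L.X 0)).symm (((secCx L).iCycles 0).app (op W) z))
    fun k _ => cycles_cond L W z k

lemma toHom_add (W : Opens X) (z z' : ((secCx L).cycles 0).obj (op W)) :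
    toHom L W (z + z') = toHom L W z + toHom L W z' := by
  apply from_single_hom_ext
  rw [HomologicalComplex.add_f_apply]
  simp only [toHom, mkHomFromSingle_f, ← Preadditive.comp_add]
  congr 1
  apply (homEquiv W (L.X 0)).injective
  rw [homEquiv_add]
  simp
  rfl

/-- The map from cocycles to morphisms in the derived category. -/
noncomputable def toD : (secCx L).cycles 0 ⟶ homPre (DerivedCategory.Q.obj L) where
  app W := AddCommGrpCat.ofHom (AddMonoidHom.mk'
    (fun z => DerivedCategory.Q.map (toHom L W.unop z)) fun z z' => by
      exact (congrArg (DerivedCategory.Q.map ·) (toHom_add L W.unop z z')).trans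
        (DerivedCategory.Q.map_add))
  naturality W V i := by
    ext z
    change DerivedCategory.Q.map (toHom L V.unop (((secCx L).cycles 0).map i z)) =
      DerivedCategory.Q.map ((HomologicalComplex.single (CohTop.Ab X) (.up ℤ) 0).map
        (Zs.map i.unop)) ≫ DerivedCategory.Q.map (toHom L W.unop z)
    rw [← Functor.map_comp]
    congr 1
    apply from_single_hom_ext
    rw [HomologicalComplex.comp_f, toHom, toHom, mkHomFromSingle_f, mkHomFromSingle_f,
      single_map_f_self]
    simp only [Category.assoc, Iso.inv_hom_id_assoc]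
    congr 1
    apply (homEquiv V.unop (L.X 0)).injective
    rw [homEquiv_res, Equiv.apply_symm_apply, Equiv.apply_symm_apply]
    exact NatTrans.naturality_apply ((secCx L).iCycles 0) i z

end

end Groth.Agent.H30.DHom
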